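import Groth.Agent.GrpScheme.ClosedRepProd

/-! Finite flat finitely presented morphisms are locally free. -/

set_option autoImplicit false
set_option linter.style.haveILetI false

universe u

open CategoryTheory AlgebraicGeometry Topology TopologicalSpace Opposite

noncomputable section

namespace Groth.Agent.HomSch

/-- A finite locally free morphism is free over small affine opens of the base. -/
theorem exists_free_affine {X Y : Scheme.{u}} (f : X ⟶ Y) [IsFinite f] [Flat f] [LocallyOfFinitePresentation f]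
    (O : Y.Opens) (y : Y) (hy : y ∈ O) :
    ∃ U : Y.affineOpens, y ∈ U.1 ∧ U.1 ≤ O ∧
      @Module.Free Γ(Y, U.1) Γ(X, f ⁻¹ᵁ U.1) _ _ (f.app U.1).hom.toAlgebra.toModule := by
  obtain ⟨V, hV, hyV, hVO⟩ := exists_isAffineOpen_mem_and_subset (x := y) (U := O) hy
  letI := (f.app V).hom.toAlgebra
  haveI : Module.Finite Γ(Y, V) Γ(X, f ⁻¹ᵁ V) := f.finite_app V hV
  haveI : Module.Flat Γ(Y, V) Γ(X, f ⁻¹ᵁ V) := by
    have := f.flat_appLE hV (hV.preimage f) le_rfl
    rwa [← Scheme.Hom.app_eq_appLE] at this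
  haveI : Algebra.FinitePresentation Γ(Y, V) Γ(X, f ⁻¹ᵁ V) := by
    have := LocallyOfFinitePresentation.finitePresentation_appLE (f := f) hV (hV.preimage f) le_rfl
    rwa [← Scheme.Hom.app_eq_appLE] at this
  haveI : Module.FinitePresentation Γ(Y, V) Γ(X, f ⁻¹ᵁ V) :=
    Module.FinitePresentation.of_finite_of_finitePresentation _ _
  let P := hV.primeIdealOf ⟨y, hyV⟩
  haveI : Module.Free (Localization.AtPrime P.asIdeal)
      (LocalizedModule P.asIdeal.primeCompl Γ(X, f ⁻¹ᵁ V)) := Module.free_of_flat_of_isLocalRing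
  obtain ⟨r, hr, hfree, -⟩ := Module.FinitePresentation.exists_free_localizedModule_powers
    P.asIdeal.primeCompl (LocalizedModule.mkLinearMap P.asIdeal.primeCompl Γ(X, f ⁻¹ᵁ V))
    (Localization.AtPrime P.asIdeal)
  let U := Y.basicOpen r
  have hU : IsAffineOpen U := hV.basicOpen r
  have hyU : y ∈ U := by
    rw [show y = hV.fromSpec P from (hV.fromSpec_primeIdealOf ⟨y, hyV⟩).symm]
    change P ∈ hV.fromSpec ⁻¹ᵁ Y.basicOpen r
    rw [hV.fromSpec_preimage_basicOpen]
    exact hr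
  refine ⟨⟨U, hU⟩, hyU, (Y.basicOpen_le r).trans hVO, ?_⟩
  letI iU := (f.app U).hom.toAlgebra
  have hle : U ≤ V := Y.basicOpen_le r
  letI : Algebra Γ(Y, V) Γ(Y, U) := (Y.presheaf.map (homOfLE hle).op).hom.toAlgebra
  letI : Algebra Γ(X, f ⁻¹ᵁ V) Γ(X, f ⁻¹ᵁ U) :=
    (X.presheaf.map ((Opens.map f.base).map (homOfLE hle)).op).hom.toAlgebra
  letI : Algebra Γ(Y, V) Γ(X, f ⁻¹ᵁ U) := (Y.presheaf.map (homOfLE hle).op ≫ f.app U).hom.toAlgebra
  haveI : IsScalarTower Γ(Y, V) Γ(Y, U) Γ(X, f ⁻¹ᵁ U) :=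
    IsScalarTower.of_algebraMap_eq fun _ => rfl
  haveI : IsScalarTower Γ(Y, V) Γ(X, f ⁻¹ᵁ V) Γ(X, f ⁻¹ᵁ U) :=
    IsScalarTower.of_algebraMap_eq fun a =>
      ConcreteCategory.congr_hom (f.naturality (homOfLE hle).op) a
  haveI hlY : IsLocalization.Away r Γ(Y, U) := hV.isLocalization_basicOpen r
  haveI hlX : IsLocalization.Away ((f.app V).hom r) Γ(X, f ⁻¹ᵁ U) :=
    (hV.preimage f).isLocalization_of_eq_basicOpen _ ((Opens.map f.base).map (homOfLE hle))
      (Scheme.preimage_basicOpen f r)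
  haveI : IsLocalizedModule (Submonoid.powers r)
      (IsScalarTower.toAlgHom Γ(Y, V) Γ(X, f ⁻¹ᵁ V) Γ(X, f ⁻¹ᵁ U)).toLinearMap := by
    refine isLocalizedModule_iff_isLocalization.mpr ?_
    rw [Algebra.algebraMapSubmonoid, Submonoid.map_powers]
    exact hlX
  let e₀ : LocalizedModule (Submonoid.powers r) Γ(X, f ⁻¹ᵁ V) ≃ₗ[Γ(Y, V)] Γ(X, f ⁻¹ᵁ U) :=
    IsLocalizedModule.iso (Submonoid.powers r)
      (IsScalarTower.toAlgHom Γ(Y, V) Γ(X, f ⁻¹ᵁ V) Γ(X, f ⁻¹ᵁ U)).toLinearMap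
  haveI : Module.Free Γ(Y, U) Γ(X, f ⁻¹ᵁ U) := by
    let b := Module.Free.chooseBasis (Localization (Submonoid.powers r))
      (LocalizedModule (Submonoid.powers r) Γ(X, f ⁻¹ᵁ V))
    let eA : Localization (Submonoid.powers r) ≃ₐ[Γ(Y, V)] Γ(Y, U) :=
      IsLocalization.algEquiv (Submonoid.powers r) _ _
    haveI : RingHomInvPair (eA : Localization (Submonoid.powers r) →+* Γ(Y, U))
        (eA.symm : Γ(Y, U) →+* Localization (Submonoid.powers r)) :=
      RingHomInvPair.of_ringEquiv eA.toRingEquiv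
    haveI : RingHomInvPair (eA.symm : Γ(Y, U) →+* Localization (Submonoid.powers r))
        (eA : Localization (Submonoid.powers r) →+* Γ(Y, U)) :=
      RingHomInvPair.of_ringEquiv eA.symm.toRingEquiv
    let e₁ : LocalizedModule (Submonoid.powers r) Γ(X, f ⁻¹ᵁ V)
        ≃ₛₗ[(eA : Localization (Submonoid.powers r) →+* Γ(Y, U))] Γ(X, f ⁻¹ᵁ U) :=
      { e₀.toAddEquiv with
        map_smul' := fun c m => by
          obtain ⟨a, s, rfl⟩ := IsLocalization.exists_mk'_eq (Submonoid.powers r) c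
          have hu : IsUnit (algebraMap Γ(Y, V) Γ(Y, U) s) := IsLocalization.map_units _ s
          apply (hu.smul_left_cancel (β := Γ(X, f ⁻¹ᵁ U))).1
          change algebraMap Γ(Y, V) Γ(Y, U) s • e₀ _ =
            algebraMap Γ(Y, V) Γ(Y, U) s • ((eA _) • e₀ m)
          rw [← mul_smul, algebraMap_smul]
          have e1 : algebraMap Γ(Y, V) Γ(Y, U) s * eA (IsLocalization.mk'
              (Localization (Submonoid.powers r)) a s) = algebraMap Γ(Y, V) Γ(Y, U) a := by
            rw [← eA.commutes (s : Γ(Y, V)), ← map_mul, IsLocalization.mk'_spec', eA.commutes]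
          rw [e1, algebraMap_smul, ← e₀.map_smul, ← e₀.map_smul]
          congr 1
          rw [← algebraMap_smul (Localization (Submonoid.powers r)) (s : Γ(Y, V)), ← mul_smul,
            IsLocalization.mk'_spec', algebraMap_smul] }
    exact Module.Free.of_equiv e₁
  exact inferInstance

theorem locallyFree {X Y : Scheme.{u}} (f : X ⟶ Y) [IsFinite f] [Flat f] [LocallyOfFinitePresentation f] :
    GrpScheme.ClosedRepProd.LocallyFree f := fun y => by
  obtain ⟨U, hyU, -, hfree⟩ := exists_free_affine f ⊤ y trivial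
  refine ⟨U, hyU, fun x hx => ⟨⟨f ⁻¹ᵁ U.1, U.2.preimage f⟩, le_rfl, hx, ?_⟩⟩
  rw [Scheme.Hom.appLE_eq_app]
  exact hfree

end Groth.Agent.HomSch
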