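import Groth.Agent.HomSch.Chart
import Mathlib.AlgebraicGeometry.RelativeGluing

/-! The scheme of morphisms out of a finite locally free scheme into an affine one. -/

set_option autoImplicit false

universe u

open CategoryTheory MonoidalCategory CartesianMonoidalCategory AlgebraicGeometry Limits

noncomputable section

namespace Groth.Agent.HomSch

variable {S : Scheme.{u}}

lemma exists_glued {T : Scheme.{u}} {𝒰 : T.OpenCover} [Category 𝒰.I₀] [𝒰.LocallyDirected] [Small.{u} 𝒰.I₀]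
    [Quiver.IsThin 𝒰.I₀] (d : 𝒰.RelativeGluingData) :
    ∃ (X : Scheme.{u}) (q : X ⟶ T) (ι : ∀ i, d.functor.obj i ⟶ X),
      (∀ {i j} (f : i ⟶ j), d.functor.map f ≫ ι j = ι i) ∧
      (∀ i, IsPullback (ι i) (d.natTrans.app i) q (𝒰.f i)) ∧ ∀ x, ∃ i, x ∈ Set.range (ι i).base :=
  ⟨_, d.toBase, colimit.ι d.functor, fun f => colimit.w d.functor f,
    fun i => (d.isPullback_natTrans_ι_toBase i).flip, fun x => ⟨_, d.cover.covers x⟩⟩

set_option maxHeartbeats 800000 in
set_option backward.isDefEq.respectTransparency.types false in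
/-- `T ↦ Hom_S(X ×_S T, Y)` for `X` finite locally free and `Y` affine is an affine scheme. -/
theorem exists_homScheme (X Y : Over S) [IsFinite X.hom] [Flat X.hom] [LocallyOfFinitePresentation X.hom]
    [IsAffineHom Y.hom] :
    ∃ (M : Over S) (ev : X ⊗ M ⟶ Y), IsAffineHom M.hom ∧
      (LocallyOfFiniteType Y.hom → LocallyOfFiniteType M.hom) ∧
      (LocallyOfFinitePresentation Y.hom → LocallyOfFinitePresentation M.hom) ∧
      ∀ (T : Over S) (φ : X ⊗ T ⟶ Y), ∃! v : T ⟶ M, (X ◁ v) ≫ ev = φ := by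
  choose W ω ev hft hfp hgood using fun V : S.affineOpens => exists_chart (X := X) (Y := Y) V
  let Mc : S.affineOpens → Over S := fun V => Over.mk (Spec.map (ω V) ≫ V.2.fromSpec)
  have hrange : ∀ V, Set.range (Mc V).hom.base ⊆ (V.1 : Set S) := fun V => by
    rintro _ ⟨z, rfl⟩
    exact V.2.range_fromSpec.le ⟨_, rfl⟩
  have hrange' : ∀ {V V' : S.affineOpens}, V.1 ≤ V'.1 → Set.range (Mc V).hom.base ⊆ (V'.1 : Set S) :=
    fun h => (hrange _).trans h
  let wV : ∀ V, (Mc V).left ⟶ V.1.toScheme := fun V => Spec.map (ω V) ≫ V.2.isoSpec.inv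
  have hwV : ∀ V, wV V ≫ V.1.ι = (Mc V).hom := fun V => Category.assoc _ _ _
  have ht : ∀ (V V' : S.affineOpens) (h : V.1 ≤ V'.1), ∃! t : Mc V ⟶ Mc V', (X ◁ t) ≫ ev V' = ev V :=
    fun V V' h => hgood V' (Mc V) (hrange' h) (ev V)
  choose t htev htu using ht
  have huniq : ∀ (V : S.affineOpens) {T : Over S} (a b : T ⟶ Mc V),
      (X ◁ a) ≫ ev V = (X ◁ b) ≫ ev V → a = b := fun V T a b h => by
    have hT : Set.range T.hom.base ⊆ (V.1 : Set S) := by
      rw [← Over.w a]
      rintro _ ⟨z, rfl⟩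
      exact hrange V ⟨_, rfl⟩
    exact (hgood V T hT ((X ◁ b) ≫ ev V)).unique h rfl
  have htw : ∀ {V V' : S.affineOpens} (h : V.1 ≤ V'.1), (t V V' h).left ≫ wV V' = wV V ≫ S.homOfLE h := fun {V V'} h => by
    rw [← cancel_mono V'.1.ι]
    exact ((Category.assoc _ _ _).trans ((congrArg ((t V V' h).left ≫ ·) (hwV V')).trans (Over.w (t V V' h)))).trans
      ((Category.assoc _ _ _).trans ((congrArg (wV V ≫ ·) (Scheme.homOfLE_ι _ h)).trans (hwV V))).symm
  have htid : ∀ V : S.affineOpens, t V V le_rfl = 𝟙 (Mc V) := fun V => huniq V _ _ (by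
    rw [htev, whiskerLeft_id, Category.id_comp])
  have htcomp : ∀ {V V' V'' : S.affineOpens} (h₁ : V.1 ≤ V'.1) (h₂ : V'.1 ≤ V''.1),
      t V V'' (h₁.trans h₂) = t V V' h₁ ≫ t V' V'' h₂ := fun h₁ h₂ => huniq _ _ _ (by
    rw [htev, whiskerLeft_comp, Category.assoc, htev, htev])
  let 𝒰 := S.directedAffineCover
  let Fn : S.affineOpens ⥤ Scheme.{u} :=
    { obj := fun V => (Mc V).left
      map := fun {V V'} f => (t V V' (leOfHom f)).left
      map_id := fun V => by
        change (t V V le_rfl).left = _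
        rw [htid]; rfl
      map_comp := fun {V V' V''} f g => by
        change (t V V'' ((show V.1 ≤ V'.1 from leOfHom f).trans (show V'.1 ≤ V''.1 from leOfHom g))).left = _
        rw [htcomp]; rfl }
  let nt : Fn ⟶ 𝒰.functorOfLocallyDirected :=
    { app := fun V => wV V
      naturality := fun V V' f => htw (leOfHom f) }
  have hsq : ∀ (V V' : S.affineOpens) (h : V.1 ≤ V'.1),
      IsPullback (t V V' h).left (wV V) (wV V') (S.homOfLE h) := fun V V' h => by
    let mk : ∀ s : PullbackCone (wV V') (S.homOfLE h), ∃ v : Over.mk (s.snd ≫ V.1.ι) ⟶ Mc V,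
        v.left ≫ (t V V' h).left = s.fst ∧ v.left ≫ wV V = s.snd ∧
          ∀ m : s.pt ⟶ (Mc V).left, m ≫ (t V V' h).left = s.fst → m ≫ wV V = s.snd → m = v.left := fun s => by
      let T : Over S := Over.mk (s.snd ≫ V.1.ι)
      have hT : Set.range T.hom.base ⊆ (V.1 : Set S) := by
        rintro _ ⟨z, rfl⟩
        exact (s.snd.base z).2
      let a : T ⟶ Mc V' := Over.homMk s.fst (by
        show s.fst ≫ (Mc V').hom = s.snd ≫ V.1.ι
        rw [← hwV, s.condition_assoc, Scheme.homOfLE_ι])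
      obtain ⟨v, hv, hvu⟩ := hgood V T hT ((X ◁ a) ≫ ev V')
      refine ⟨v, congrArg CommaMorphism.left (huniq V' (v ≫ t V V' h) a (by
        rw [whiskerLeft_comp, Category.assoc, htev]; exact hv)), ?_, fun m h1 h2 => ?_⟩
      · rw [← cancel_mono V.1.ι, Category.assoc, hwV]
        exact Over.w v
      · let m' : T ⟶ Mc V := Over.homMk m (by
          show m ≫ (Mc V).hom = s.snd ≫ V.1.ι
          rw [← hwV, reassoc_of% h2])
        refine congrArg CommaMorphism.left (hvu m' ?_)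
        show (X ◁ m') ≫ ev V = (X ◁ a) ≫ ev V'
        rw [← htev V V' h, ← Category.assoc, ← whiskerLeft_comp,
          show m' ≫ t V V' h = a from Over.OverMorphism.ext h1]
    choose v hv1 hv2 hv3 using mk
    exact ⟨⟨htw h⟩, ⟨PullbackCone.IsLimit.mk _ (fun s => (v s).left) hv1 hv2 hv3⟩⟩
  let d : 𝒰.RelativeGluingData :=
    { functor := Fn
      natTrans := nt
      equifibered := fun V V' f => hsq V V' (leOfHom f) }
  have hthin : Quiver.IsThin 𝒰.I₀ := fun (_ _ : S.affineOpens) =>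
    inferInstanceAs (Subsingleton (ULift (PLift _)))
  have hsmall : Small.{u} 𝒰.I₀ := inferInstanceAs (Small.{u} S.affineOpens)
  obtain ⟨X₀, q₀, ι, hw, hpb, hcov⟩ := exists_glued d
  let M : Over S := Over.mk q₀
  have hpb' : ∀ V : S.affineOpens, IsPullback (ι V) (wV V) q₀ V.1.ι := fun V => hpb V
  let i : ∀ V : S.affineOpens, Mc V ⟶ M := fun V => Over.homMk (ι V) ((hpb' V).w.trans (hwV V))
  have hit : ∀ {V V' : S.affineOpens} (h : V.1 ≤ V'.1), t V V' h ≫ i V' = i V :=
    fun {V V'} h => Over.OverMorphism.ext (hw (homOfLE (show V ≤ V' from h)))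
  have hopen : ∀ V : S.affineOpens, IsOpenImmersion (i V).left := fun V =>
    MorphismProperty.of_isPullback (hpb' V).flip (inferInstanceAs (IsOpenImmersion V.1.ι))
  have hmono : ∀ V, Mono (i V) := fun V => by
    have := hopen V
    exact (Over.forget S).mono_of_mono_map (inferInstanceAs (Mono (i V).left))
  have hov : ∀ (V V' : S.affineOpens) (Q : Over S) (a : Q ⟶ Mc V) (b : Q ⟶ Mc V'), a ≫ i V = b ≫ i V' →
      (X ◁ a) ≫ ev V = (X ◁ b) ≫ ev V' := by
    intro V V' Q a b hab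
    refine hom_ext_snd _ _ fun z => ?_
    have h1 : Q.hom.base z ∈ V.1 := hrange V ⟨a.left.base z, by rw [← Scheme.Hom.comp_apply, Over.w a]⟩
    have h2 : Q.hom.base z ∈ V'.1 := hrange V' ⟨b.left.base z, by rw [← Scheme.Hom.comp_apply, Over.w b]⟩
    obtain ⟨K, hK, hzK, hKle⟩ := exists_isAffineOpen_mem_and_subset (x := Q.hom.base z) (U := V.1 ⊓ V'.1) ⟨h1, h2⟩
    let Kt : S.affineOpens := ⟨K, hK⟩
    have hKV : Kt.1 ≤ V.1 := fun _ hu => (hKle hu).1
    have hKV' : Kt.1 ≤ V'.1 := fun _ hu => (hKle hu).2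
    let U : Over S := Over.mk ((Q.hom ⁻¹ᵁ K).ι ≫ Q.hom)
    let j : U ⟶ Q := Over.homMk (Q.hom ⁻¹ᵁ K).ι rfl
    refine ⟨U, j, inferInstanceAs (IsOpenImmersion (Q.hom ⁻¹ᵁ K).ι), ⟨⟨z, hzK⟩, rfl⟩, ?_⟩
    let c : U ⟶ Mc Kt := Over.homMk ((hpb' Kt).lift (j ≫ a ≫ i V).left (Q.hom ∣_ K) (by
      rw [morphismRestrict_ι]
      exact Over.w (j ≫ a ≫ i V))) (by
        show (hpb' Kt).lift _ _ _ ≫ (Mc Kt).hom = _
        rw [← hwV, IsPullback.lift_snd_assoc, morphismRestrict_ι]
        rfl)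
    have hc : c ≫ i Kt = j ≫ a ≫ i V := Over.OverMorphism.ext ((hpb' Kt).lift_fst _ _ _)
    have := hmono V
    have := hmono V'
    have e1 : c ≫ t Kt V hKV = j ≫ a := (cancel_mono (i V)).1 (by rw [Category.assoc, hit, hc, Category.assoc])
    have e2 : c ≫ t Kt V' hKV' = j ≫ b := (cancel_mono (i V')).1 (by
      rw [Category.assoc, hit, hc, Category.assoc, hab])
    rw [← Category.assoc, ← Category.assoc, ← whiskerLeft_comp, ← whiskerLeft_comp, ← e1, ← e2, whiskerLeft_comp,
      whiskerLeft_comp, Category.assoc, Category.assoc, htev, htev]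
  obtain ⟨E, hE⟩ := exists_glue_snd (X := X) (Y := Y) (P := M) (ι := S.affineOpens) (j := i) Mc hcov ev hov
  refine ⟨M, E, ?_, fun h => ?_, fun h => ?_, fun T => ?_⟩
  · refine IsZariskiLocalAtTarget.of_openCover (P := @IsAffineHom) 𝒰 fun (V : S.affineOpens) => ?_
    show IsAffineHom (pullback.snd q₀ V.1.ι)
    rw [← (hpb' V).isoPullback_inv_snd, MorphismProperty.cancel_left_of_respectsIso (P := @IsAffineHom)]
    exact MorphismProperty.comp_mem _ _ _ (inferInstanceAs (IsAffineHom (Spec.map (ω V)))) inferInstance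
  · refine IsZariskiLocalAtTarget.of_openCover (P := @LocallyOfFiniteType) 𝒰 fun (V : S.affineOpens) => ?_
    show LocallyOfFiniteType (pullback.snd q₀ V.1.ι)
    rw [← (hpb' V).isoPullback_inv_snd, MorphismProperty.cancel_left_of_respectsIso (P := @LocallyOfFiniteType)]
    have : LocallyOfFiniteType (Spec.map (ω V)) :=
      (HasRingHomProperty.Spec_iff (P := @LocallyOfFiniteType)).mpr (hft V h)
    exact MorphismProperty.comp_mem _ _ _ this inferInstance
  · refine IsZariskiLocalAtTarget.of_openCover (P := @LocallyOfFinitePresentation) 𝒰 fun (V : S.affineOpens) => ?_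
    show LocallyOfFinitePresentation (pullback.snd q₀ V.1.ι)
    rw [← (hpb' V).isoPullback_inv_snd,
      MorphismProperty.cancel_left_of_respectsIso (P := @LocallyOfFinitePresentation)]
    have : LocallyOfFinitePresentation (Spec.map (ω V)) :=
      (HasRingHomProperty.Spec_iff (P := @LocallyOfFinitePresentation)).mpr (hfp V h)
    exact MorphismProperty.comp_mem _ _ _ this inferInstance
  refine goodAt_of_affine Set.univ (fun T' _ hV _ φ => ?_) T (Set.subset_univ _)
  obtain ⟨V, hV⟩ := hV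
  obtain ⟨v, hv, hvu⟩ := hgood V T' hV φ
  refine ⟨v ≫ i V, ?_, fun v' hv' => ?_⟩
  · show (X ◁ (v ≫ i V)) ≫ E = φ
    rw [whiskerLeft_comp, Category.assoc, hE]
    exact hv
  let r := IsOpenImmersion.lift V.1.ι T'.hom (by rw [Scheme.Opens.range_ι]; exact hV)
  have hr : r ≫ V.1.ι = T'.hom := IsOpenImmersion.lift_fac _ _ _
  let c : T' ⟶ Mc V := Over.homMk ((hpb' V).lift v'.left r ((Over.w v').trans hr.symm)) (by
    show (hpb' V).lift _ _ _ ≫ (Mc V).hom = _
    rw [← hwV, IsPullback.lift_snd_assoc, hr])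
  have hc : c ≫ i V = v' := Over.OverMorphism.ext ((hpb' V).lift_fst _ _ _)
  rw [← hc, hvu c (by show (X ◁ c) ≫ ev V = φ; rw [← hE V, ← Category.assoc, ← whiskerLeft_comp, hc]; exact hv')]

end Groth.Agent.HomSch
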