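import Groth.Agent.HomSch.Local
import Groth.Agent.HomSch.LocFree

/-! The scheme of morphisms out of a finite locally free scheme into an affine one: affine base. -/

set_option autoImplicit false
set_option linter.style.haveILetI false

universe u

open CategoryTheory MonoidalCategory CartesianMonoidalCategory AlgebraicGeometry Limits
open scoped TensorProduct

noncomputable section

namespace Groth.Agent.HomSch

variable {S : Scheme.{u}} {X Y : Over S}

lemma isPullback_fromSpec {Z : Scheme.{u}} (f : Z ⟶ S) [IsAffineHom f] {V : S.Opens} (hV : IsAffineOpen V) :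
    IsPullback (hV.preimage f).fromSpec (Spec.map (f.app V)) f hV.fromSpec := by
  haveI : IsAffine V.toScheme := hV
  haveI : IsAffine (f ⁻¹ᵁ V).toScheme := hV.preimage f
  refine (isPullback_morphismRestrict f V).flip.of_iso (hV.preimage f).isoSpec (Iso.refl _)
    hV.isoSpec (Iso.refl _) ?_ ?_ ?_ ?_
  · rw [IsAffineOpen.isoSpec_hom, IsAffineOpen.toSpecΓ_fromSpec]; simp
  · simp only [IsAffineOpen.isoSpec_hom, morphismRestrict, Category.assoc]
    rw [Scheme.Hom.app_eq_appLE, Scheme.Opens.toSpecΓ_SpecMap_appLE, Scheme.Hom.resLE_eq_morphismRestrict]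
    rfl
  · simp
  · rw [IsAffineOpen.isoSpec_hom, IsAffineOpen.toSpecΓ_fromSpec]; simp

set_option backward.isDefEq.respectTransparency.types false in
/-- The universal family over an affine open of the base. -/
theorem exists_chart (V : S.affineOpens) [IsFinite X.hom] [Flat X.hom] [LocallyOfFinitePresentation X.hom]
    [IsAffineHom Y.hom] :
    ∃ (W : CommRingCat.{u}) (ω : Γ(S, V.1) ⟶ W)
      (ev : X ⊗ Over.mk (Spec.map ω ≫ V.2.fromSpec) ⟶ Y),
      (LocallyOfFiniteType Y.hom → ω.hom.FiniteType) ∧
      (LocallyOfFinitePresentation Y.hom → ω.hom.FinitePresentation) ∧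
      ∀ T : Over S, Set.range T.hom.base ⊆ (V.1 : Set S) → GoodAt ev T := by
  let R := Γ(S, V.1)
  let w := V.2.fromSpec
  have : IsOpenImmersion w := IsAffineOpen.isOpenImmersion_fromSpec _
  let B := Γ(X.left, X.hom ⁻¹ᵁ V.1)
  let C := Γ(Y.left, Y.hom ⁻¹ᵁ V.1)
  let bx : Spec B ⟶ X.left := (V.2.preimage X.hom).fromSpec
  let cy : Spec C ⟶ Y.left := (V.2.preimage Y.hom).fromSpec
  have : IsOpenImmersion cy := IsAffineOpen.isOpenImmersion_fromSpec _
  letI : Algebra R B := (X.hom.app V.1).hom.toAlgebra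
  letI : Algebra R C := (Y.hom.app V.1).hom.toAlgebra
  have sqB : IsPullback bx (Spec.map (X.hom.app V.1)) X.hom w := isPullback_fromSpec X.hom V.2
  have sqC : IsPullback cy (Spec.map (Y.hom.app V.1)) Y.hom w := isPullback_fromSpec Y.hom V.2
  haveI : Module.Finite R B := X.hom.finite_app V.1 V.2
  haveI : Module.Flat R B := by
    have := X.hom.flat_appLE V.2 (V.2.preimage X.hom) le_rfl
    rwa [← Scheme.Hom.app_eq_appLE] at this
  haveI : Algebra.FinitePresentation R B := by
    have := LocallyOfFinitePresentation.finitePresentation_appLE (f := X.hom) V.2 (V.2.preimage X.hom) le_rfl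
    rwa [← Scheme.Hom.app_eq_appLE] at this
  haveI : Module.FinitePresentation R B := Module.FinitePresentation.of_finite_of_finitePresentation _ _
  haveI : Module.Projective R B := Module.Flat.projective_of_finitePresentation
  obtain ⟨W, iW, iWR, Φ, hΦ, hft, hfp⟩ := exists_weil R B C
  let ω : R ⟶ CommRingCat.of W := CommRingCat.ofHom (algebraMap R W)
  let st : ∀ (D : Type u) [CommRing D] [Algebra R D], Over S := fun D _ _ =>
    Over.mk (Spec.map (CommRingCat.ofHom (algebraMap R D)) ≫ w)
  let inL : ∀ (D : Type u) [CommRing D] [Algebra R D], Spec (CommRingCat.of (D ⊗[R] B)) ⟶ (st D).left := fun D _ _ =>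
    Spec.map (CommRingCat.ofHom Algebra.TensorProduct.includeLeftRingHom)
  let inR : ∀ (D : Type u) [CommRing D] [Algebra R D], Spec (CommRingCat.of (D ⊗[R] B)) ⟶ Spec B := fun D _ _ =>
    Spec.map (CommRingCat.ofHom (Algebra.TensorProduct.includeRight (R := R) (A := D) (B := B)).toRingHom)
  have sq : ∀ (D : Type u) [CommRing D] [Algebra R D], IsPullback (inR D ≫ bx) (inL D) X.hom (st D).hom := fun D _ _ => by
    have h1 : IsPullback (inL D) (inR D) (Spec.map (CommRingCat.ofHom (algebraMap R D))) (Spec.map (X.hom.app V.1)) :=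
      (IsPullback.of_hasPullback _ _).of_iso (pullbackSpecIso R D B) (Iso.refl _) (Iso.refl _) (Iso.refl _)
        (by rw [Iso.refl_hom, Category.comp_id]; exact (Iso.inv_comp_eq _).mp (pullbackSpecIso_inv_fst R D B))
        (by rw [Iso.refl_hom, Category.comp_id]; exact (Iso.inv_comp_eq _).mp (pullbackSpecIso_inv_snd R D B))
        (by simp) (by simp; rfl)
    exact h1.flip.paste_horiz sqB
  let PT : ∀ (D : Type u) [CommRing D] [Algebra R D], Over S := fun D _ _ => Over.mk (inL D ≫ (st D).hom)
  let E : ∀ (D : Type u) [CommRing D] [Algebra R D], PT D ≅ X ⊗ st D := fun D _ _ =>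
    Over.isoMk (sq D).isoPullback (by
      show (sq D).isoPullback.hom ≫ pullback.fst X.hom (st D).hom ≫ X.hom = _
      rw [IsPullback.isoPullback_hom_fst_assoc, (sq D).w]
      rfl)
  have hstr : ∀ (D : Type u) [CommRing D] [Algebra R D] (f : C →ₐ[R] D ⊗[R] B),
      Spec.map (CommRingCat.ofHom f.toRingHom) ≫ Spec.map (Y.hom.app V.1) =
        inL D ≫ Spec.map (CommRingCat.ofHom (algebraMap R D)) := fun D _ _ f => by
    rw [← Spec.map_comp, ← Spec.map_comp]
    congr 1
    exact CommRingCat.hom_ext f.comp_algebraMap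
  let mor : ∀ (D : Type u) [CommRing D] [Algebra R D], (C →ₐ[R] D ⊗[R] B) → (PT D ⟶ Y) := fun D _ _ f =>
    Over.homMk (Spec.map (CommRingCat.ofHom f.toRingHom) ≫ cy) (by
      show (_ ≫ cy) ≫ Y.hom = inL D ≫ Spec.map _ ≫ w
      rw [Category.assoc, sqC.w, ← Category.assoc, hstr, Category.assoc])
  have mor_inj : ∀ (D : Type u) [CommRing D] [Algebra R D], Function.Injective (mor D) := fun D _ _ f g h => by
    have h2 := congrArg CommaMorphism.left h
    have h3 := Spec.map_injective ((cancel_mono cy).mp h2)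
    exact AlgHom.coe_ringHom_injective (congrArg CommRingCat.Hom.hom h3)
  have mor_surj : ∀ (D : Type u) [CommRing D] [Algebra R D], Function.Surjective (mor D) := fun D _ _ φ => by
    let g := Spec.preimage (sqC.lift φ.left (inL D ≫ Spec.map (CommRingCat.ofHom (algebraMap R D)))
      (by rw [Category.assoc]; exact Over.w φ))
    have hg : Spec.map g = sqC.lift φ.left (inL D ≫ Spec.map (CommRingCat.ofHom (algebraMap R D))) _ :=
      Spec.map_preimage _
    have hg2 : Spec.map g ≫ Spec.map (Y.hom.app V.1) = inL D ≫ Spec.map (CommRingCat.ofHom (algebraMap R D)) := by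
      rw [hg, IsPullback.lift_snd]
    rw [← Spec.map_comp, ← Spec.map_comp] at hg2
    refine ⟨{ g.hom with commutes' := fun r => congr($(Spec.map_injective hg2) r) }, ?_⟩
    ext1
    show Spec.map g ≫ cy = φ.left
    rw [hg, IsPullback.lift_fst]
  let ev : X ⊗ st W ⟶ Y := (E W).inv ≫ mor W Φ
  have hev : ∀ (D : Type u) [CommRing D] [Algebra R D] (φ : W →ₐ[R] D) (v : st D ⟶ st W),
      v.left = Spec.map (CommRingCat.ofHom φ.toRingHom) →
      (E D).hom ≫ (X ◁ v) ≫ ev = mor D ((Algebra.TensorProduct.map φ (AlgHom.id R B)).comp Φ) := by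
    intro D _ _ φ v hv
    let m := Algebra.TensorProduct.map φ (AlgHom.id R B)
    let M' : PT D ⟶ PT W := Over.homMk (Spec.map (CommRingCat.ofHom m.toRingHom)) (by
      show Spec.map _ ≫ inL W ≫ Spec.map _ ≫ w = inL D ≫ Spec.map _ ≫ w
      simp only [← Category.assoc, inL, ← Spec.map_comp]
      congr 2
      refine CommRingCat.hom_ext (RingHom.ext fun r => ?_)
      show m (algebraMap R W r ⊗ₜ 1) = algebraMap R D r ⊗ₜ 1
      simp [m])
    have e : (E D).hom ≫ (X ◁ v) = M' ≫ (E W).hom := by
      apply Over.OverMorphism.ext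
      apply pullback.hom_ext
      · show ((sq D).isoPullback.hom ≫ (X ◁ v).left) ≫ pullback.fst X.hom (st W).hom =
          (Spec.map (CommRingCat.ofHom m.toRingHom) ≫ (sq W).isoPullback.hom) ≫ pullback.fst _ _
        rw [Category.assoc, Category.assoc, IsPullback.isoPullback_hom_fst]
        erw [Over.whiskerLeft_left_fst, IsPullback.isoPullback_hom_fst]
        rw [← Category.assoc]
        congr 1
        simp only [inR, ← Spec.map_comp]
        congr 1
        refine CommRingCat.hom_ext (RingHom.ext fun b => ?_)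
        show (1 : D) ⊗ₜ[R] b = m (1 ⊗ₜ b)
        simp [m]
      · show ((sq D).isoPullback.hom ≫ (X ◁ v).left) ≫ pullback.snd X.hom (st W).hom =
          (Spec.map (CommRingCat.ofHom m.toRingHom) ≫ (sq W).isoPullback.hom) ≫ pullback.snd _ _
        rw [Category.assoc, Category.assoc, IsPullback.isoPullback_hom_snd]
        erw [Over.whiskerLeft_left_snd, IsPullback.isoPullback_hom_snd_assoc]
        rw [hv]
        simp only [inL, ← Spec.map_comp]
        congr 1
    rw [reassoc_of% e, Iso.hom_inv_id_assoc]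
    ext1
    show Spec.map _ ≫ Spec.map _ ≫ cy = Spec.map _ ≫ cy
    rw [← Category.assoc, ← Spec.map_comp]
    rfl
  have hgood : ∀ (D : Type u) [CommRing D] [Algebra R D], GoodAt ev (st D) := fun D _ _ ψ => by
    obtain ⟨f, hf⟩ := mor_surj D ((E D).hom ≫ ψ)
    obtain ⟨φ, hφ, hu⟩ := hΦ D f
    let v : st D ⟶ st W := Over.homMk (Spec.map (CommRingCat.ofHom φ.toRingHom)) (by
      show Spec.map _ ≫ Spec.map _ ≫ w = Spec.map _ ≫ w
      rw [← Category.assoc, ← Spec.map_comp]
      congr 2
      exact CommRingCat.hom_ext φ.comp_algebraMap)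
    refine ⟨v, ?_, fun v' hv' => ?_⟩
    · show (X ◁ v) ≫ ev = ψ
      rw [← cancel_epi (E D).hom, hev D φ v rfl, hφ, hf]
    · have hw' : Spec.preimage v'.left ≫ 𝟙 _ = Spec.preimage v'.left := Category.comp_id _
      have h2 : Spec.map (Spec.preimage v'.left) ≫ Spec.map (CommRingCat.ofHom (algebraMap R W)) =
          Spec.map (CommRingCat.ofHom (algebraMap R D)) := by
        rw [← cancel_mono w, Spec.map_preimage, Category.assoc]
        exact Over.w v'
      rw [← Spec.map_comp] at h2
      let φ' : W →ₐ[R] D :=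
        { (Spec.preimage v'.left).hom with commutes' := fun r => congr($(Spec.map_injective h2) r) }
      have hv'' : v'.left = Spec.map (CommRingCat.ofHom φ'.toRingHom) := (Spec.map_preimage _).symm
      have := hu φ' (mor_inj D (by rw [← hev D φ' v' hv'', hf, hv']))
      ext1
      rw [hv'', this]
      rfl
  refine ⟨CommRingCat.of W, ω, ev, fun h => ?_, fun h => ?_, fun T hT => ?_⟩
  · have h1 := LocallyOfFiniteType.finiteType_appLE (f := Y.hom) V.2 (V.2.preimage Y.hom) le_rfl
    rw [← Scheme.Hom.app_eq_appLE] at h1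
    exact RingHom.finiteType_algebraMap.mpr (hft h1)
  · have h1 := LocallyOfFinitePresentation.finitePresentation_appLE (f := Y.hom) V.2 (V.2.preimage Y.hom) le_rfl
    rw [← Scheme.Hom.app_eq_appLE] at h1
    exact RingHom.finitePresentation_algebraMap.mpr (hfp h1)
  refine goodAt_of_affine V.1 (fun T' hTa _ hT' => ?_) T hT
  have hr : Set.range (T'.left.isoSpec.inv ≫ T'.hom).base ⊆ Set.range w.base := by
    rw [V.2.range_fromSpec]
    rintro _ ⟨z, rfl⟩
    exact hT' ⟨_, rfl⟩
  let g := Spec.preimage (IsOpenImmersion.lift w (T'.left.isoSpec.inv ≫ T'.hom) hr)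
  letI : Algebra R Γ(T'.left, ⊤) := g.hom.toAlgebra
  refine GoodAt.of_iso (Over.isoMk T'.left.isoSpec.symm ?_) (hgood Γ(T'.left, ⊤))
  show T'.left.isoSpec.inv ≫ T'.hom = Spec.map g ≫ w
  rw [Spec.map_preimage, IsOpenImmersion.lift_fac]

end Groth.Agent.HomSch
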