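import Groth.Agent.HomSch.Glue
import Groth.Agent.GrpScheme.FlatFib.Scheme
import Groth.Prelude.Def_AutFam

/-! The scheme of homomorphisms out of a finite locally free group into an affine one. -/

set_option autoImplicit false

universe u

open CategoryTheory MonoidalCategory CartesianMonoidalCategory MonObj AlgebraicGeometry Limits

noncomputable section

namespace Groth.Agent.HomSch

variable {S : Scheme.{u}}

set_option backward.isDefEq.respectTransparency false in
set_option backward.isDefEq.respectTransparency.types false in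
lemma lfp_equalizer_ι {M N : Over S} [LocallyOfFiniteType N.hom] (a b : M ⟶ N) :
    LocallyOfFinitePresentation (equalizer.ι a b).left := by
  have : LocallyOfFinitePresentation (pullback.diagonal N.hom) := by
    have : LocallyOfFinitePresentation (pullback.diagonal N.hom ≫ pullback.fst N.hom N.hom) := by
      rw [pullback.diagonal_fst]; infer_instance
    exact GrpScheme.FlatFib.locallyOfFinitePresentation_of_comp _ (pullback.fst N.hom N.hom)
  refine MorphismProperty.of_isPullback (P := @LocallyOfFinitePresentation)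
    ((Limits.isPullback_equalizer_prod a b).map (Over.forget _)).flip ?_
  rw [← MorphismProperty.cancel_right_of_respectsIso @LocallyOfFinitePresentation _
    (Over.prodLeftIsoPullback N N).hom]
  convert! (inferInstance : LocallyOfFinitePresentation (pullback.diagonal N.hom))
  ext1 <;> simp [← Over.comp_left]

set_option backward.isDefEq.respectTransparency.types false in
lemma isFinite_tensor {X Y : Over S} [IsFinite X.hom] [IsFinite Y.hom] : IsFinite (X ⊗ Y).hom :=
  MorphismProperty.comp_mem _ _ _ (inferInstanceAs (IsFinite (pullback.fst X.hom Y.hom))) (inferInstanceAs (IsFinite X.hom))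

set_option backward.isDefEq.respectTransparency.types false in
lemma flat_tensor {X Y : Over S} [Flat X.hom] [Flat Y.hom] : Flat (X ⊗ Y).hom :=
  MorphismProperty.comp_mem _ _ _ (inferInstanceAs (Flat (pullback.fst X.hom Y.hom))) (inferInstanceAs (Flat X.hom))

set_option backward.isDefEq.respectTransparency.types false in
lemma lfp_tensor {X Y : Over S} [LocallyOfFinitePresentation X.hom] [LocallyOfFinitePresentation Y.hom] :
    LocallyOfFinitePresentation (X ⊗ Y).hom :=
  MorphismProperty.comp_mem _ _ _ (inferInstanceAs (LocallyOfFinitePresentation (pullback.fst X.hom Y.hom)))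
    (inferInstanceAs (LocallyOfFinitePresentation X.hom))

/-- `T ↦ Hom_{T-gr}(G_T, G'_T)` for `G` finite locally free and `G'` affine is an affine scheme. -/
theorem exists_homGrpScheme (G G' : Over S) [GrpObj G] [GrpObj G'] [IsFinite G.hom] [Flat G.hom]
    [LocallyOfFinitePresentation G.hom] [IsAffineHom G'.hom] :
    ∃ (A : Over S) (υ : G ⊗ A ⟶ G'), AutFam.RepresentsHom G G' A υ ∧ IsAffineHom A.hom ∧
      (LocallyOfFiniteType G'.hom → LocallyOfFiniteType A.hom) ∧
      (LocallyOfFinitePresentation G'.hom → LocallyOfFinitePresentation A.hom) := by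
  have : IsFinite (G ⊗ G).hom := isFinite_tensor
  have : Flat (G ⊗ G).hom := flat_tensor
  have : LocallyOfFinitePresentation (G ⊗ G).hom := lfp_tensor
  obtain ⟨M, ev, hMa, hMt, hMp, hM⟩ := exists_homScheme G G'
  obtain ⟨N, ev2, hNa, hNt, hNp, hN⟩ := exists_homScheme (G ⊗ G) G'
  let ψ₁ : (G ⊗ G) ⊗ M ⟶ G' := (μ[G] ▷ M) ≫ ev
  let ψ₂ : (G ⊗ G) ⊗ M ⟶ G' := (lift (fst (G ⊗ G) M ≫ fst G G) (snd (G ⊗ G) M) ≫ ev) *
    (lift (fst (G ⊗ G) M ≫ snd G G) (snd (G ⊗ G) M) ≫ ev)
  obtain ⟨v₁, hv₁, -⟩ := hN M ψ₁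
  obtain ⟨v₂, hv₂, -⟩ := hN M ψ₂
  have key : ∀ (T : Over S) (m : T ⟶ M), m ≫ v₁ = m ≫ v₂ ↔ AutFam.IsHomFamily G G' ((G ◁ m) ≫ ev) := by
    intro T m
    have h1 : ∀ v, ((G ⊗ G) ◁ (m ≫ v)) ≫ ev2 = ((G ⊗ G) ◁ m) ≫ ((G ⊗ G) ◁ v) ≫ ev2 := fun v => by
      rw [whiskerLeft_comp, Category.assoc]
    have hp : ∀ (X : Over S) (a b : X ⟶ G) (t : X ⟶ T),
        lift (lift a b) t ≫ ((G ⊗ G) ◁ m) ≫ ψ₁ = lift (a * b) t ≫ (G ◁ m) ≫ ev ∧
        lift (lift a b) t ≫ ((G ⊗ G) ◁ m) ≫ ψ₂ = (lift a t ≫ (G ◁ m) ≫ ev) * (lift b t ≫ (G ◁ m) ≫ ev) := by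
      intro X a b t
      refine ⟨?_, ?_⟩
      · simp only [ψ₁, lift_whiskerLeft_assoc, lift_whiskerRight_assoc, Hom.mul_def]
      · simp only [ψ₂, MonObj.comp_mul, lift_whiskerLeft_assoc, comp_lift_assoc, lift_fst, lift_snd,
          lift_fst_assoc, lift_snd_assoc]
    constructor
    · intro h X a b t
      have h2 := congrArg (fun q => lift (lift a b) t ≫ ((G ⊗ G) ◁ q) ≫ ev2) h
      simp only [h1, hv₁, hv₂] at h2
      rw [(hp X a b t).1, (hp X a b t).2] at h2
      exact h2
    · intro h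
      refine (hN T (((G ⊗ G) ◁ (m ≫ v₂)) ≫ ev2)).unique ?_ rfl
      show ((G ⊗ G) ◁ (m ≫ v₁)) ≫ ev2 = _
      rw [h1, h1, hv₁, hv₂]
      have e : lift (lift (fst (G ⊗ G) T ≫ fst G G) (fst (G ⊗ G) T ≫ snd G G)) (snd (G ⊗ G) T) = 𝟙 ((G ⊗ G) ⊗ T) := by
        ext <;> simp
      obtain ⟨p1, p2⟩ := hp _ (fst (G ⊗ G) T ≫ fst G G) (fst (G ⊗ G) T ≫ snd G G) (snd (G ⊗ G) T)
      rw [e, Category.id_comp] at p1 p2
      rw [p1, p2]
      exact h _ _ _ _
  have : IsSeparated N.hom := inferInstance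
  let e := equalizer.ι v₁ v₂
  refine ⟨equalizer v₁ v₂, (G ◁ e) ≫ ev, ⟨(key _ e).mp (equalizer.condition v₁ v₂), fun T φ hφ => ?_⟩, ?_, ?_, ?_⟩
  · obtain ⟨m, hm, hmu⟩ := hM T φ
    refine ⟨equalizer.lift m ((key T m).mpr (by rw [show (G ◁ m) ≫ ev = φ from hm]; exact hφ)), ?_, fun a ha => ?_⟩
    · show (G ◁ equalizer.lift m _) ≫ (G ◁ e) ≫ ev = φ
      rw [← Category.assoc, ← whiskerLeft_comp, equalizer.lift_ι]
      exact hm
    · apply equalizer.hom_ext
      rw [equalizer.lift_ι]
      refine hmu _ ?_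
      show (G ◁ (a ≫ e)) ≫ ev = φ
      rw [whiskerLeft_comp, Category.assoc]
      exact ha
  · rw [← Over.w e]
    infer_instance
  · intro h
    have := hMt h
    rw [← Over.w e]
    infer_instance
  · intro h
    have := hMp h
    have := hNp h
    have : LocallyOfFinitePresentation e.left := lfp_equalizer_ι _ _
    rw [← Over.w e]
    infer_instance

end Groth.Agent.HomSch
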