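import Groth.Agent.HomSch.Weil
import Mathlib.AlgebraicGeometry.Pullbacks

/-! Universal families of morphisms out of `X ⊗ -`: the local and gluing formalism. -/

set_option autoImplicit false

universe u

open CategoryTheory MonoidalCategory CartesianMonoidalCategory AlgebraicGeometry Limits

noncomputable section

namespace Groth.Agent.HomSch

variable {S : Scheme.{u}} {X Y : Over S}

/-- `ev` is universal at `T`. -/
def GoodAt {M : Over S} (ev : X ⊗ M ⟶ Y) (T : Over S) : Prop :=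
  ∀ φ : X ⊗ T ⟶ Y, ∃! v : T ⟶ M, (X ◁ v) ≫ ev = φ

lemma GoodAt.of_iso {M : Over S} {ev : X ⊗ M ⟶ Y} {T T' : Over S} (e : T ≅ T') (h : GoodAt ev T) :
    GoodAt ev T' := by
  intro φ
  obtain ⟨v, hv, hu⟩ := h ((X ◁ e.hom) ≫ φ)
  refine ⟨e.inv ≫ v, ?_, fun w hw => ?_⟩
  · show (X ◁ (e.inv ≫ v)) ≫ ev = φ
    rw [whiskerLeft_comp, Category.assoc, hv, ← Category.assoc, ← whiskerLeft_comp, e.inv_hom_id,
      whiskerLeft_id, Category.id_comp]
  · rw [← hu (e.hom ≫ w) (by show (X ◁ (e.hom ≫ w)) ≫ ev = _; rw [whiskerLeft_comp, Category.assoc]; exact congrArg ((X ◁ e.hom) ≫ ·) hw), e.inv_hom_id_assoc]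

/-- Morphisms out of `X ⊗ P` are determined locally on `P`. -/
lemma hom_ext_snd {P : Over S} (f g : X ⊗ P ⟶ Y)
    (h : ∀ z : P.left, ∃ (U : Over S) (j : U ⟶ P), IsOpenImmersion j.left ∧ z ∈ Set.range j.left.base ∧
      (X ◁ j) ≫ f = (X ◁ j) ≫ g) : f = g := by
  choose U j hj hz he using h
  ext1
  let 𝒱 : (X ⊗ P).left.OpenCover :=
    (Scheme.Cover.mkOfCovers P.left (fun z => (U z).left) (fun z => (j z).left)
      (fun z => ⟨z, hz z⟩) (fun z => hj z)).pullback₁ (snd X P).left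
  refine 𝒱.hom_ext _ _ fun (z : P.left) => ?_
  show pullback.fst (snd X P).left (j z).left ≫ f.left = pullback.fst (snd X P).left (j z).left ≫ g.left
  let Q : Over S := Over.mk (pullback.fst (snd X P).left (j z).left ≫ (X ⊗ P).hom)
  let q : Q ⟶ X ⊗ P := Over.homMk (pullback.fst (snd X P).left (j z).left) rfl
  let r : Q ⟶ U z := Over.homMk (pullback.snd (snd X P).left (j z).left) (by
    show _ ≫ (U z).hom = pullback.fst _ _ ≫ (X ⊗ P).hom
    rw [← Over.w (j z), ← Over.w (snd X P), pullback.condition_assoc])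
  let k : Q ⟶ X ⊗ U z := lift (q ≫ fst X P) r
  have hk : k ≫ (X ◁ j z) = q := by
    ext
    · simp [k]
    · simp only [k, Category.assoc, whiskerLeft_snd, lift_snd_assoc, q, r]
      exact pullback.condition.symm
  have h2 := congrArg (fun m => (k ≫ m).left) (he z)
  simp only [← Category.assoc, hk] at h2
  exact h2

/-- Morphisms out of `X ⊗ P` glue along open covers of `P`. -/
lemma exists_glue_snd {P : Over S} {ι : Type u} (U : ι → Over S) (j : ∀ i, U i ⟶ P)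
    [∀ i, IsOpenImmersion (j i).left] (hcov : ∀ z : P.left, ∃ i, z ∈ Set.range (j i).left.base)
    (f : ∀ i, X ⊗ U i ⟶ Y)
    (hf : ∀ (i k : ι) (Q : Over S) (a : Q ⟶ U i) (b : Q ⟶ U k), a ≫ j i = b ≫ j k →
      (X ◁ a) ≫ f i = (X ◁ b) ≫ f k) :
    ∃ F : X ⊗ P ⟶ Y, ∀ i, (X ◁ j i) ≫ F = f i := by
  choose idx hidx using hcov
  let 𝒰 : P.left.OpenCover := Scheme.Cover.mkOfCovers ι (fun i => (U i).left) (fun i => (j i).left)
    (fun z => ⟨idx z, hidx z⟩) (fun i => inferInstanceAs (IsOpenImmersion (j i).left))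
  let 𝒱 : (X ⊗ P).left.OpenCover := 𝒰.pullback₁ (snd X P).left
  let Q : ι → Over S := fun i => Over.mk (pullback.fst (snd X P).left (j i).left ≫ (X ⊗ P).hom)
  let q : ∀ i, Q i ⟶ X ⊗ P := fun i => Over.homMk (pullback.fst (snd X P).left (j i).left) rfl
  let r : ∀ i, Q i ⟶ U i := fun i => Over.homMk (pullback.snd (snd X P).left (j i).left) (by
    show _ ≫ (U i).hom = pullback.fst _ _ ≫ (X ⊗ P).hom
    rw [← Over.w (j i), ← Over.w (snd X P), pullback.condition_assoc])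
  let k : ∀ i, Q i ⟶ X ⊗ U i := fun i => lift (q i ≫ fst X P) (r i)
  let g : ∀ i, pullback (snd X P).left (j i).left ⟶ Y.left := fun i => (k i ≫ f i).left
  have hrj : ∀ i, r i ≫ j i = q i ≫ snd X P := fun i => by
    ext1
    exact pullback.condition.symm
  have hcompat : ∀ i i', pullback.fst (𝒱.f i) (𝒱.f i') ≫ g i = pullback.snd (𝒱.f i) (𝒱.f i') ≫ g i' := by
    intro (i : ι) (i' : ι)
    let Z : Over S := Over.mk (pullback.fst (q i).left (q i').left ≫ (Q i).hom)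
    let a : Z ⟶ Q i := Over.homMk (pullback.fst (q i).left (q i').left) rfl
    let b : Z ⟶ Q i' := Over.homMk (pullback.snd (q i).left (q i').left) (by
      show _ ≫ (Q i').hom = pullback.fst _ _ ≫ (Q i).hom
      exact ((Category.assoc _ _ _).symm.trans ((congrArg (· ≫ (X ⊗ P).hom) (pullback.condition (f := (q i).left) (g := (q i').left))).symm.trans (Category.assoc _ _ _))))
    have hab : a ≫ q i = b ≫ q i' := Over.OverMorphism.ext (pullback.condition (f := (q i).left) (g := (q i').left))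
    have h1 := hf i i' Z (a ≫ r i) (b ≫ r i') (by
      rw [Category.assoc, hrj, Category.assoc, hrj, reassoc_of% hab])
    have e : ∀ {m : ι} (c : Z ⟶ Q m), c ≫ k m = lift (c ≫ q m ≫ fst X P) (𝟙 Z) ≫ (X ◁ (c ≫ r m)) := fun c => by
      simp [k]
    have h2 : a ≫ k i ≫ f i = b ≫ k i' ≫ f i' := by
      rw [← Category.assoc, e a, ← Category.assoc b, e b, reassoc_of% hab, Category.assoc, h1, Category.assoc]
    exact congrArg CommaMorphism.left h2
  refine ⟨Over.homMk (𝒱.glueMorphisms g hcompat) (𝒱.hom_ext _ _ fun (i : ι) => ?_), fun i => ?_⟩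
  · exact ((Category.assoc _ _ _).symm.trans (congrArg (· ≫ Y.hom) (Scheme.Cover.ι_glueMorphisms 𝒱 g hcompat i))).trans
      (Over.w (k i ≫ f i))
  · ext1
    let w : (X ⊗ U i).left ⟶ pullback (snd X P).left (j i).left :=
      pullback.lift (X ◁ j i).left (snd X (U i)).left (by
        rw [← Over.comp_left, ← Over.comp_left, whiskerLeft_snd])
    let wO : X ⊗ U i ⟶ Q i := Over.homMk w (by
      show w ≫ pullback.fst _ _ ≫ _ = _
      rw [← Category.assoc, pullback.lift_fst]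
      exact Over.w (X ◁ j i))
    have hw : wO ≫ k i = 𝟙 _ := by
      have hq : wO ≫ q i = X ◁ j i := Over.OverMorphism.ext (pullback.lift_fst _ _ _)
      have hr : wO ≫ r i = snd X (U i) := Over.OverMorphism.ext (pullback.lift_snd _ _ _)
      simp only [k, comp_lift, reassoc_of% hq, hr, whiskerLeft_fst, lift_fst_snd]
    show (X ◁ j i).left ≫ 𝒱.glueMorphisms g hcompat = (f i).left
    have e1 : (X ◁ j i).left = w ≫ 𝒱.f i := (pullback.lift_fst _ _ _).symm
    refine (congrArg (· ≫ 𝒱.glueMorphisms g hcompat) e1).trans ((Category.assoc _ _ _).trans ?_)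
    refine (congrArg (w ≫ ·) (Scheme.Cover.ι_glueMorphisms 𝒱 g hcompat i)).trans ?_
    show (wO ≫ k i ≫ f i).left = _
    rw [← Category.assoc, hw, Category.id_comp]

/-- Points with the same pullback of a family that is universal on small affines are equal. -/
lemma ext_of_good {M : Over S} {ev : X ⊗ M ⟶ Y}
    (O : Set S)
    (h : ∀ (T : Over S), IsAffine T.left → (∃ V : S.affineOpens, Set.range T.hom.base ⊆ (V.1 : Set S)) →
      Set.range T.hom.base ⊆ O → GoodAt ev T)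
    {T : Over S} (hT : Set.range T.hom.base ⊆ O) (a b : T ⟶ M) (hab : (X ◁ a) ≫ ev = (X ◁ b) ≫ ev) : a = b := by
  ext1
  refine Scheme.Cover.hom_ext
    (Scheme.Cover.mkOfCovers (P := @IsOpenImmersion) {U : T.left.affineOpens // ∃ V : S.affineOpens, U.1 ≤ T.hom ⁻¹ᵁ V.1}
      (fun U => U.1.1.toScheme) (fun U => U.1.1.ι) (fun z => ?_) (fun U => inferInstance)) _ _ fun U => ?_
  · obtain ⟨V, hV, hzV, -⟩ := exists_isAffineOpen_mem_and_subset (X := S) (x := T.hom.base z) (U := ⊤) trivial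
    obtain ⟨U, hU, hzU, hle⟩ := exists_isAffineOpen_mem_and_subset (X := T.left) (x := z) (U := T.hom ⁻¹ᵁ V) hzV
    exact ⟨⟨⟨U, hU⟩, ⟨V, hV⟩, hle⟩, ⟨z, hzU⟩, rfl⟩
  obtain ⟨V, hUV⟩ := U.2
  let T' : Over S := Over.mk (U.1.1.ι ≫ T.hom)
  let j : T' ⟶ T := Over.homMk U.1.1.ι rfl
  have hg := h T' U.1.2 ⟨V, by
    rintro _ ⟨w, rfl⟩
    exact hUV w.2⟩ (by rintro _ ⟨w, rfl⟩; exact hT ⟨_, rfl⟩) ((X ◁ j) ≫ (X ◁ a) ≫ ev)
  have : j ≫ a = j ≫ b := hg.unique (by rw [whiskerLeft_comp, Category.assoc])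
    (by rw [whiskerLeft_comp, Category.assoc, hab])
  exact congrArg CommaMorphism.left this

/-- A family universal on small affines is universal. -/
theorem goodAt_of_affine {M : Over S} {ev : X ⊗ M ⟶ Y}
    (O : Set S)
    (h : ∀ (T : Over S), IsAffine T.left → (∃ V : S.affineOpens, Set.range T.hom.base ⊆ (V.1 : Set S)) →
      Set.range T.hom.base ⊆ O → GoodAt ev T)
    (T : Over S) (hT : Set.range T.hom.base ⊆ O) : GoodAt ev T := by
  intro φ
  let ι' : Type u := {U : T.left.affineOpens // ∃ V : S.affineOpens, U.1 ≤ T.hom ⁻¹ᵁ V.1}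
  let U' : ι' → Over S := fun U => Over.mk (U.1.1.ι ≫ T.hom)
  let j : ∀ U, U' U ⟶ T := fun U => Over.homMk U.1.1.ι rfl
  have hg : ∀ U, ∃ v : U' U ⟶ M, (X ◁ v) ≫ ev = (X ◁ j U) ≫ φ := fun U => by
    obtain ⟨V, hUV⟩ := U.2
    exact (h (U' U) U.1.2 ⟨V, by
      rintro _ ⟨w, rfl⟩
      exact hUV w.2⟩ (by rintro _ ⟨w, rfl⟩; exact hT ⟨_, rfl⟩) ((X ◁ j U) ≫ φ)).exists
  choose v hv using hg
  have hcov : ∀ z : T.left, ∃ (U : ι'), z ∈ U.1.1 := fun z => by
    obtain ⟨V, hV, hzV, -⟩ := exists_isAffineOpen_mem_and_subset (X := S) (x := T.hom.base z) (U := ⊤) trivial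
    obtain ⟨U, hU, hzU, hle⟩ := exists_isAffineOpen_mem_and_subset (X := T.left) (x := z) (U := T.hom ⁻¹ᵁ V) hzV
    exact ⟨⟨⟨U, hU⟩, ⟨V, hV⟩, hle⟩, hzU⟩
  choose idx hidx using hcov
  let 𝒰 : T.left.OpenCover := Scheme.Cover.mkOfCovers ι' (fun U => U.1.1.toScheme) (fun U => U.1.1.ι)
    (fun z => ⟨idx z, ⟨z, hidx z⟩, rfl⟩) (fun U => inferInstance)
  have hcompat : ∀ U U', pullback.fst (𝒰.f U) (𝒰.f U') ≫ (v U).left = pullback.snd (𝒰.f U) (𝒰.f U') ≫ (v U').left := by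
    intro (U : ι') (U₂ : ι')
    let Z : Over S := Over.mk (pullback.fst U.1.1.ι U₂.1.1.ι ≫ (U' U).hom)
    let a : Z ⟶ U' U := Over.homMk (pullback.fst U.1.1.ι U₂.1.1.ι) rfl
    let b : Z ⟶ U' U₂ := Over.homMk (pullback.snd U.1.1.ι U₂.1.1.ι) (by
      show _ ≫ U₂.1.1.ι ≫ T.hom = pullback.fst _ _ ≫ U.1.1.ι ≫ T.hom
      rw [pullback.condition_assoc])
    have hab : a ≫ j U = b ≫ j U₂ := by ext1; exact pullback.condition
    refine congrArg CommaMorphism.left (ext_of_good O h (by rintro _ ⟨w, rfl⟩; exact hT ⟨_, rfl⟩) (a ≫ v U) (b ≫ v U₂) ?_)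
    rw [whiskerLeft_comp, whiskerLeft_comp, Category.assoc, Category.assoc, hv, hv, ← Category.assoc,
      ← Category.assoc, ← whiskerLeft_comp, ← whiskerLeft_comp, hab]
  let w : T ⟶ M := Over.homMk (𝒰.glueMorphisms (fun U => (v U).left) hcompat) (𝒰.hom_ext _ _ fun (U : ι') => by
    exact ((Category.assoc _ _ _).symm.trans (congrArg (· ≫ M.hom) (Scheme.Cover.ι_glueMorphisms 𝒰 (fun U => (v U).left) hcompat U))).trans
      (Over.w (v U)))
  have hw : ∀ U, j U ≫ w = v U := fun U => by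
    ext1
    exact Scheme.Cover.ι_glueMorphisms 𝒰 (fun U => (v U).left) hcompat U
  refine ⟨w, hom_ext_snd _ _ fun z => ⟨U' (idx z), j _, inferInstanceAs (IsOpenImmersion (idx z).1.1.ι),
    ⟨⟨z, hidx z⟩, rfl⟩, ?_⟩, fun w' hw' => ?_⟩
  · rw [← Category.assoc, ← whiskerLeft_comp, hw, hv]
  · refine ext_of_good O h hT _ _ ?_
    rw [hw']
    exact (hom_ext_snd _ _ fun z => ⟨U' (idx z), j _, inferInstanceAs (IsOpenImmersion (idx z).1.1.ι),
      ⟨⟨z, hidx z⟩, rfl⟩, by rw [← Category.assoc, ← whiskerLeft_comp, hw, hv]⟩).symm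

end Groth.Agent.HomSch
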