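import Mathlib

/-! Weil restriction of affine algebras along finite projective algebras. -/

set_option autoImplicit false

universe u

open scoped TensorProduct

noncomputable section

namespace Groth.Agent.HomSch

variable {R B : Type u} [CommRing R] [CommRing B] [Algebra R B] {n : ℕ}
  (s : B →ₗ[R] (Fin n → R))

/-- Coordinates of an element of a base change of `B`. -/
def crd (T : Type u) [CommRing T] [Algebra R T] (j : Fin n) : T ⊗[R] B →ₗ[R] T :=
  (TensorProduct.rid R T).toLinearMap ∘ₗ LinearMap.lTensor T ((LinearMap.proj j) ∘ₗ s)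

lemma crd_tmul (T : Type u) [CommRing T] [Algebra R T] (j : Fin n) (t : T) (b : B) :
    crd s T j (t ⊗ₜ b) = s b j • t := by
  simp [crd]

lemma crd_map {T T' : Type u} [CommRing T] [Algebra R T] [CommRing T'] [Algebra R T'] (φ : T →ₐ[R] T')
    (j : Fin n) (z : T ⊗[R] B) :
    crd s T' j (Algebra.TensorProduct.map φ (AlgHom.id R B) z) = φ (crd s T j z) := by
  induction z using TensorProduct.induction_on with
  | zero => simp
  | tmul t b => simp [crd_tmul]
  | add x y hx hy => simp [map_add, hx, hy]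

lemma exists_factor {A C D : Type u} [CommRing A] [CommRing C] [CommRing D] [Algebra R A] [Algebra R C] [Algebra R D]
    (π : A →ₐ[R] C) (hπ : Function.Surjective π) (f : A →ₐ[R] D) (h : ∀ x, π x = 0 → f x = 0) :
    ∃ g : C →ₐ[R] D, ∀ x, g (π x) = f x :=
  ⟨AlgHom.liftOfSurjective π hπ f fun x hx => h x hx, fun x => AlgHom.liftOfSurjective_apply π hπ f _ x⟩

variable (e : Fin n → B) (he : ∀ b : B, ∑ j, s b j • e j = b)

include he in
lemma sum_crd (T : Type u) [CommRing T] [Algebra R T] (z : T ⊗[R] B) : ∑ j, crd s T j z ⊗ₜ e j = z := by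
  induction z using TensorProduct.induction_on with
  | zero => simp
  | tmul t b =>
    simp only [crd_tmul, TensorProduct.smul_tmul, ← TensorProduct.tmul_sum, he]
  | add x y hx hy => simp only [map_add, TensorProduct.add_tmul, Finset.sum_add_distrib, hx, hy]

include he in
/-- The universal algebra of homomorphisms from a presented algebra into base changes of `B`. -/
theorem exists_weil_of_presentation {C : Type u} [CommRing C] [Algebra R C] {σ : Type u}
    (π : MvPolynomial σ R →ₐ[R] C) (hπ : Function.Surjective π) (G : Set (MvPolynomial σ R))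
    (hG : Ideal.span G = RingHom.ker π) :
    ∃ (W : Type u) (_ : CommRing W) (_ : Algebra R W) (Φ : C →ₐ[R] W ⊗[R] B),
      (∀ (T : Type u) [CommRing T] [Algebra R T] (f : C →ₐ[R] T ⊗[R] B),
        ∃! φ : W →ₐ[R] T, (Algebra.TensorProduct.map φ (AlgHom.id R B)).comp Φ = f) ∧
      (Finite σ → Algebra.FiniteType R W) ∧ (Finite σ → G.Finite → Algebra.FinitePresentation R W) := by
  classical
  obtain ⟨Ψ, hΨ⟩ : ∃ Ψ : MvPolynomial σ R →ₐ[R] MvPolynomial (σ × Fin n) R ⊗[R] B,
      ∀ i, Ψ (MvPolynomial.X i) = ∑ j, MvPolynomial.X (i, j) ⊗ₜ e j :=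
    ⟨MvPolynomial.aeval fun i => ∑ j, MvPolynomial.X (i, j) ⊗ₜ e j, fun i => MvPolynomial.aeval_X _ i⟩
  let rels : Set (MvPolynomial (σ × Fin n) R) :=
    Set.range (fun q : σ × Fin n => MvPolynomial.X q - crd s _ q.2 (Ψ (MvPolynomial.X q.1))) ∪
      (fun q : MvPolynomial σ R × Fin n => crd s _ q.2 (Ψ q.1)) '' (G ×ˢ Set.univ)
  obtain ⟨I, hI⟩ : ∃ I : Ideal (MvPolynomial (σ × Fin n) R), I = Ideal.span rels := ⟨_, rfl⟩
  let q : (MvPolynomial (σ × Fin n) R) →ₐ[R] (MvPolynomial (σ × Fin n) R) ⧸ I := Ideal.Quotient.mkₐ R I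
  let Φ₀ : MvPolynomial σ R →ₐ[R] ((MvPolynomial (σ × Fin n) R) ⧸ I) ⊗[R] B := (Algebra.TensorProduct.map q (AlgHom.id R B)).comp Ψ
  have hker : RingHom.ker π ≤ RingHom.ker Φ₀ := by
    rw [← hG, Ideal.span_le]
    intro g hg
    show Φ₀ g = 0
    rw [← sum_crd s e he _ (Φ₀ g)]
    refine Finset.sum_eq_zero fun j _ => ?_
    have : crd s ((MvPolynomial (σ × Fin n) R) ⧸ I) j (Φ₀ g) = 0 := by
      show crd s ((MvPolynomial (σ × Fin n) R) ⧸ I) j (Algebra.TensorProduct.map q (AlgHom.id R B) (Ψ g)) = 0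
      rw [crd_map]
      exact Ideal.Quotient.eq_zero_iff_mem.mpr (hI ▸ Ideal.subset_span (Or.inr ⟨(g, j), ⟨hg, trivial⟩, rfl⟩))
    rw [this, TensorProduct.zero_tmul]
  obtain ⟨Φ, hΦ⟩ := exists_factor (D := ((MvPolynomial (σ × Fin n) R) ⧸ I) ⊗[R] B) π hπ Φ₀ fun x hx => by exact hker hx
  refine ⟨(MvPolynomial (σ × Fin n) R) ⧸ I, inferInstance, inferInstance, Φ, fun T _ _ f => ?_, fun _ => inferInstance, fun _ hfin => ?_⟩
  · let v : (MvPolynomial (σ × Fin n) R) →ₐ[R] T := MvPolynomial.aeval fun r => crd s T r.2 (f (π (MvPolynomial.X r.1)))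
    have hv : (Algebra.TensorProduct.map v (AlgHom.id R B)).comp Ψ = f.comp π := by
      refine MvPolynomial.algHom_ext fun i => ?_
      simp only [hΨ, v, AlgHom.comp_apply, MvPolynomial.aeval_X, map_sum, Algebra.TensorProduct.map_tmul,
        AlgHom.coe_id, id_eq]
      exact sum_crd s e he _ _
    have hv0 : ∀ a ∈ I, v a = 0 := by
      intro a ha
      rw [hI] at ha
      refine (Ideal.span_le (I := RingHom.ker v)).mpr ?_ ha
      rintro _ (⟨r, rfl⟩ | ⟨⟨g, j⟩, ⟨hg, -⟩, rfl⟩)
      · show v _ = 0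
        rw [map_sub, ← crd_map, ← AlgHom.comp_apply (Algebra.TensorProduct.map v (AlgHom.id R B)), hv]
        simp [v]
      · show v _ = 0
        rw [← crd_map, ← AlgHom.comp_apply (Algebra.TensorProduct.map v (AlgHom.id R B)), hv, AlgHom.comp_apply,
          show π g = 0 from hG.le (Ideal.subset_span hg), map_zero, map_zero]
    refine ⟨Ideal.Quotient.liftₐ I v hv0, AlgHom.ext fun c => ?_, fun φ hφ => ?_⟩
    · obtain ⟨x, rfl⟩ := hπ c
      rw [AlgHom.comp_apply, hΦ]
      show Algebra.TensorProduct.map _ _ (Algebra.TensorProduct.map q (AlgHom.id R B) (Ψ x)) = _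
      rw [← AlgHom.comp_apply, ← Algebra.TensorProduct.map_comp]
      rw [show (Ideal.Quotient.liftₐ I v hv0).comp q = v from AlgHom.ext fun _ => rfl, AlgHom.id_comp]
      exact DFunLike.congr_fun hv x
    · refine Ideal.Quotient.algHom_ext R (MvPolynomial.algHom_ext fun r => ?_)
      show φ (q (MvPolynomial.X r)) = v (MvPolynomial.X r)
      have e1 : q (MvPolynomial.X r) = crd s ((MvPolynomial (σ × Fin n) R) ⧸ I) r.2 (Φ (π (MvPolynomial.X r.1))) := by
        rw [hΦ]
        show _ = crd s ((MvPolynomial (σ × Fin n) R) ⧸ I) r.2 (Algebra.TensorProduct.map q (AlgHom.id R B) (Ψ (MvPolynomial.X r.1)))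
        rw [crd_map]
        exact Ideal.Quotient.eq.mpr (hI ▸ Ideal.subset_span (Or.inl ⟨r, rfl⟩))
      rw [e1, ← crd_map, ← AlgHom.comp_apply (Algebra.TensorProduct.map φ (AlgHom.id R B)), hφ]
      simp [v]
  · refine Algebra.FinitePresentation.quotient (hI ▸ Submodule.fg_span ?_)
    exact (Set.finite_range _).union ((hfin.prod Set.finite_univ).image _)

/-- Weil restriction of an affine algebra along a finite projective algebra. -/
theorem exists_weil (R B C : Type u) [CommRing R] [CommRing B] [Algebra R B] [CommRing C] [Algebra R C]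
    [Module.Finite R B] [Module.Projective R B] :
    ∃ (W : Type u) (_ : CommRing W) (_ : Algebra R W) (Φ : C →ₐ[R] W ⊗[R] B),
      (∀ (T : Type u) [CommRing T] [Algebra R T] (f : C →ₐ[R] T ⊗[R] B),
        ∃! φ : W →ₐ[R] T, (Algebra.TensorProduct.map φ (AlgHom.id R B)).comp Φ = f) ∧
      (Algebra.FiniteType R C → Algebra.FiniteType R W) ∧
      (Algebra.FinitePresentation R C → Algebra.FinitePresentation R W) := by
  classical
  obtain ⟨n, p, hp⟩ := Module.Finite.exists_fin' R B
  obtain ⟨s, hs⟩ := Module.projective_lifting_property p LinearMap.id hp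
  let e : Fin n → B := fun j => p (Pi.single j 1)
  have he : ∀ b : B, ∑ j, s b j • e j = b := fun b => by
    conv_rhs => rw [← LinearMap.id_apply (R := R) b, ← hs, LinearMap.comp_apply, pi_eq_sum_univ (s b), map_sum]
    refine Finset.sum_congr rfl fun j _ => ?_
    rw [map_smul]
    congr 1
    show p _ = p _
    congr 1
    funext i
    simp [Pi.single_apply, eq_comm]
  by_cases h : Algebra.FiniteType R C
  · by_cases h' : Algebra.FinitePresentation R C
    · obtain ⟨m, π, hπ, J, hJ⟩ := h'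
      let eσ : MvPolynomial (ULift.{u} (Fin m)) R ≃ₐ[R] MvPolynomial (Fin m) R :=
        MvPolynomial.renameEquiv R Equiv.ulift
      obtain ⟨W, _, _, Φ, h1, h2, h3⟩ := exists_weil_of_presentation s e he (π.comp eσ.toAlgHom)
        (hπ.comp eσ.surjective) (eσ.symm '' J) (by
          rw [← Ideal.map_span eσ.symm, hJ]
          ext x
          rw [Ideal.mem_map_of_equiv]
          exact ⟨fun ⟨y, hy, hyx⟩ => by simpa [← hyx] using hy, fun hx => ⟨eσ x, hx, eσ.symm_apply_apply x⟩⟩)
      exact ⟨W, _, _, Φ, h1, fun _ => h2 inferInstance, fun _ => h3 inferInstance ((J.finite_toSet).image _)⟩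
    · obtain ⟨m, π, hπ⟩ := Algebra.FiniteType.iff_quotient_mvPolynomial''.mp h
      let eσ : MvPolynomial (ULift.{u} (Fin m)) R ≃ₐ[R] MvPolynomial (Fin m) R :=
        MvPolynomial.renameEquiv R Equiv.ulift
      obtain ⟨W, _, _, Φ, h1, h2, -⟩ := exists_weil_of_presentation s e he (π.comp eσ.toAlgHom)
        (hπ.comp eσ.surjective) _ (Ideal.span_eq _)
      exact ⟨W, _, _, Φ, h1, fun _ => h2 inferInstance, fun hc => absurd hc h'⟩
  · have hπ : Function.Surjective (MvPolynomial.aeval (id : C → C) : MvPolynomial C R →ₐ[R] C) := fun c =>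
      ⟨MvPolynomial.X c, MvPolynomial.aeval_X _ _⟩
    obtain ⟨W, _, _, Φ, h1, -, -⟩ := exists_weil_of_presentation s e he _ hπ _ (Ideal.span_eq _)
    exact ⟨W, _, _, Φ, h1, fun hc => absurd hc h, fun hc => absurd (@Algebra.FiniteType.of_finitePresentation R C _ _ _ hc) h⟩

end Groth.Agent.HomSch
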